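import Cfsg.Agent.Lib.E6Deg41.Arith

/-!
The degrees just below the bound do not divide the order of `E₈(q)`.
-/

set_option autoImplicit false
set_option maxRecDepth 100000

namespace Cfsg.Agent.Lib.E8Deg41

open Cfsg.Lie Cfsg.Agent.Lib.Chev Cfsg.Agent.Lib.E6Deg41

/-- The bound. -/
def tgt (q : ℕ) : ℕ := q * (q ^ 12 + 1) * (q ^ 10 + 1) * (q ^ 6 + 1)

/-- The order polynomial without its `p`-part. -/
def orderPoly8 (q : ℕ) : ℕ :=
  (q ^ 2 - 1) * (q ^ 8 - 1) * (q ^ 12 - 1) * (q ^ 14 - 1) * (q ^ 18 - 1) * (q ^ 20 - 1) * (q ^ 24 - 1) * (q ^ 30 - 1)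

/-- The same as an integer polynomial. -/
def orderZ8 (x : ℤ) : ℤ :=
  (x ^ 2 - 1) * (x ^ 8 - 1) * (x ^ 12 - 1) * (x ^ 14 - 1) * (x ^ 18 - 1) * (x ^ 20 - 1) * (x ^ 24 - 1) * (x ^ 30 - 1)

/-- The candidate degree. -/
def degZ8 (j : ℕ) (x : ℤ) : ℤ := x * (x ^ 12 + 1) * (x ^ 10 + 1) * (x ^ 6 + 1) - j

/-- The checks for field orders below `B`. -/
def chkSmall8 (j B : ℕ) : Bool :=
  allN (B / 128 + 1) fun i => allN 128 fun k => Nat.blt (128 * i + k) 9 || Nat.ble B (128 * i + k) ||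
    !Nat.beq (j * orderPoly8 (128 * i + k) % (tgt (128 * i + k) - j)) 0

theorem excl8 (j B : ℕ) (Q L : List ℤ) (r : ℤ) (hj : 0 < j) (hB : j * (r.natAbs + 28) + 2 ≤ B)
    (hlen : L.length = 28 ∧ 28 < r.natAbs) (hL : chkCoef B L = true)
    (hid : ∀ x : ℤ, orderZ8 x = evL Q x * degZ8 j x + evL (L ++ [r]) x)
    (hsmall : chkSmall8 j B = true) {q : ℕ} (hq : 9 ≤ q) : ¬(tgt q - j ∣ j * orderPoly8 q) := by
  intro hdvd
  rcases (show q < B ∨ B ≤ q from Nat.lt_or_ge q B) with h | h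
  · have hdiv := Nat.div_add_mod q 128
    have := allN_iff.1 (allN_iff.1 hsmall (q / 128) (by have := Nat.div_le_div_right (c := 128) h.le; omega))
      (q % 128) (Nat.mod_lt _ (by norm_num))
    rw [hdiv] at this
    simp only [Bool.or_eq_true, Nat.blt_eq, Nat.ble_eq, Bool.not_eq_true', natBeq_eq, decide_eq_false_iff_not] at this
    rcases this with (e | e) | e
    · omega
    · omega
    · exact e (Nat.mod_eq_zero_of_dvd hdvd)
  set x : ℤ := (q : ℤ) with hx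
  have hxB : (B : ℤ) ≤ x := by rw [hx]; exact_mod_cast h
  have hx1 : (1 : ℤ) ≤ x := by rw [hx]; exact_mod_cast (show 1 ≤ q by omega)
  have hjt : j ≤ tgt q := by
    have h1 : j ≤ B := le_trans (le_trans (Nat.le_mul_of_pos_right j (by omega)) (Nat.le_add_right _ 2)) hB
    have h2 : q ≤ tgt q := Nat.le_of_dvd (by unfold tgt; positivity)
      ⟨(q ^ 12 + 1) * (q ^ 10 + 1) * (q ^ 6 + 1), by rw [tgt]; ring⟩
    omega
  have hz : degZ8 j x ∣ (j : ℤ) * orderZ8 x := by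
    have h0 : ((tgt q - j : ℕ) : ℤ) ∣ ((j * orderPoly8 q : ℕ) : ℤ) := Int.natCast_dvd_natCast.2 hdvd
    rw [Nat.cast_sub hjt] at h0
    simp only [orderPoly8, tgt, Nat.cast_mul, Nat.cast_sub (Nat.one_le_pow _ q (by omega)), Nat.cast_pow,
      Nat.cast_one, Nat.cast_add] at h0
    exact h0
  have hlast : ∀ L : List ℤ, evL (L ++ [r]) x = evL L x + x ^ L.length * r := by
    intro L
    induction L with
    | nil => simp [evL]
    | cons a L ih => simp only [List.cons_append, evL, ih, List.length_cons, pow_succ]; ring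
  set R := evL (L ++ [r]) x with hR
  have hsplit : R = evL L x + x ^ 28 * r := by rw [hR, hlast, hlen.1]
  have hb := abs_le.1 (abs_evL hL hxB)
  rw [hlen.1] at hb
  push_cast at hb
  have h2 : degZ8 j x ∣ (j : ℤ) * R := by
    have : (j : ℤ) * R = (j : ℤ) * orderZ8 x - degZ8 j x * ((j : ℤ) * evL Q x) := by rw [hid, hR]; ring
    rw [this]
    exact dvd_sub hz (dvd_mul_right _ _)
  have hp : (0 : ℤ) < x ^ 28 := by positivity
  have hr : (28 : ℤ) < |r| := by rw [← Int.natCast_natAbs]; exact_mod_cast hlen.2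
  have hRabs : |R| ≤ (|r| + 28) * x ^ 28 := by
    rw [hsplit]
    refine (abs_add_le _ _).trans ?_
    rw [abs_mul, abs_of_pos hp]
    have : |evL L x| ≤ 28 * x ^ 28 := abs_le.2 hb
    nlinarith
  have hR0 : R ≠ 0 := by
    intro e
    have h1 : |x ^ 28 * r| ≤ 28 * x ^ 28 := by
      rw [show x ^ 28 * r = -evL L x by linarith [hsplit ▸ e], abs_neg]
      exact abs_le.2 hb
    rw [abs_mul, abs_of_pos hp] at h1
    nlinarith
  have hbig : (j : ℤ) * (|r| + 28) + 2 ≤ x := by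
    refine le_trans ?_ hxB
    rw [← Int.natCast_natAbs]
    exact_mod_cast hB
  have hlt : |(j : ℤ) * R| < degZ8 j x := by
    rw [abs_mul, abs_of_nonneg (Int.natCast_nonneg j)]
    have h1 : (j : ℤ) * |R| ≤ (j : ℤ) * ((|r| + 28) * x ^ 28) := mul_le_mul_of_nonneg_left hRabs (Int.natCast_nonneg j)
    have h3 : (j : ℤ) * ((|r| + 28) * x ^ 28) ≤ (x - 2) * x ^ 28 := by
      rw [← mul_assoc]; exact mul_le_mul_of_nonneg_right (by linarith) hp.le
    have h4 : degZ8 j x = x ^ 29 + x ^ 23 + x ^ 19 + x ^ 17 + x ^ 13 + x ^ 11 + x ^ 7 + x - j := by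
      unfold degZ8; ring
    have h5 : (x - 2) * x ^ 28 = x ^ 29 - 2 * x ^ 28 := by ring
    have hpx : x ≤ x ^ 28 := le_self_pow₀ hx1 (by norm_num)
    have hj' : (j : ℤ) ≤ x := by nlinarith [abs_nonneg r]
    have : 0 ≤ x ^ 23 ∧ 0 ≤ x ^ 19 ∧ 0 ≤ x ^ 17 ∧ 0 ≤ x ^ 13 ∧ 0 ≤ x ^ 11 ∧ 0 ≤ x ^ 7 :=
      ⟨by positivity, by positivity, by positivity, by positivity, by positivity, by positivity⟩
    linarith
  exact mul_ne_zero (by exact_mod_cast hj.ne') hR0 (Int.eq_zero_of_abs_lt_dvd h2 hlt)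

theorem excl8_1 {q : ℕ} (hq : 9 ≤ q) : ¬(tgt q - 1 ∣ 1 * orderPoly8 q) :=
  excl8 1 65 [-4, 11, -15, -8, -7, 28, -7, 2, 3, 22, 9, -7, 10, 8, 11, -13, 3, 1, 1, -10, -7, 2, -5, -6, -9, 7, -5, -2, -3, 4, 4, -2, 3, 2, 8, -2, 3, 1, 4, -1, -3, 3, -1, -1, -5, 0, -1, 0, -3, -2, 1, 0, -1, 0, 3, -1, 1, 2, 2, 0, -1, 1, 1, 1, -2, 0, 0, 0, -1, -1, 1, -2, 0, 0, 0, -1, 0, 0, 0, 1, 0, 0, 0, 1, 0, 1, 0, 0, 0, 0, 0, 0, 0, -1, 0, 0, 0, -1, 0, 1]
    [-3, 15, -27, 7, 1, 35, -35, 13, -11, 34, -4, -5, -23, 24, -2, -5, -25, 7, -35, 2, -31, 8, -28, -5, -48, 13, -10, -9] (-35) (by norm_num) (by norm_num) (by decide) (by decide +kernel)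
    (fun x => by simp only [evL, orderZ8, degZ8, List.cons_append, List.nil_append]; ring)
    (by decide +kernel) hq

theorem excl8_2 {q : ℕ} (hq : 9 ≤ q) : ¬(tgt q - 2 ∣ 2 * orderPoly8 q) :=
  excl8 2 344 [46, 47, -48, -32, 4, 115, -38, 8, 6, 88, 12, -28, 26, 29, 22, -55, 6, 4, 2, -43, -14, 8, -10, -21, -18, 28, -10, -2, -6, 19, 8, -8, 6, 8, 16, -11, 6, 1, 8, -4, -6, 6, -2, -1, -10, 0, -2, 0, -6, -2, 2, 0, -2, 0, 6, -1, 2, 2, 4, 0, -2, 1, 2, 1, -4, 0, 0, 0, -2, -1, 2, -2, 0, 0, 0, -1, 0, 0, 0, 1, 0, 0, 0, 1, 0, 1, 0, 0, 0, 0, 0, 0, 0, -1, 0, 0, 0, -1, 0, 1]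
    [93, 48, -144, -16, 40, 226, -191, 8, -44, 218, -31, -118, -83, 72, -8, -94, -103, -22, -143, -80, -124, 34, -115, -88, -192, 104, -40, -30] (-143) (by norm_num) (by norm_num) (by decide) (by decide +kernel)
    (fun x => by simp only [evL, orderZ8, degZ8, List.cons_append, List.nil_append]; ring)
    (by decide +kernel) hq

theorem excl8_3 {q : ℕ} (hq : 9 ≤ q) : ¬(tgt q - 3 ∣ 3 * orderPoly8 q) :=
  excl8 3 1055 [204, 107, -117, -72, 51, 260, -117, 18, 9, 198, 3, -63, 54, 64, 33, -125, 9, 9, 3, -98, -21, 18, -15, -46, -27, 63, -15, -2, -9, 44, 12, -18, 9, 18, 24, -26, 9, 1, 12, -9, -9, 11, -3, -1, -15, 0, -3, 0, -9, -2, 3, 0, -3, 0, 9, -1, 3, 2, 6, 0, -3, 1, 3, 1, -6, 0, 0, 0, -3, -1, 3, -2, 0, 0, 0, -1, 0, 0, 0, 1, 0, 0, 0, 1, 0, 1, 0, 0, 0, 0, 0, 0, 0, -1, 0, 0, 0, -1, 0, 1]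
    [613, 117, -459, -99, 225, 729, -611, -33, -99, 702, -116, -447, -143, 168, -18, -351, -233, -123, -323, -330, -279, 96, -260, -327, -432, 351, -90, -75] (-323) (by norm_num) (by norm_num) (by decide) (by decide +kernel)
    (fun x => by simp only [evL, orderZ8, degZ8, List.cons_append, List.nil_append]; ring)
    (by decide +kernel) hq

theorem excl8_4 {q : ℕ} (hq : 9 ≤ q) : ¬(tgt q - 4 ∣ 4 * orderPoly8 q) :=
  excl8 4 2414 [524, 191, -240, -128, 152, 463, -268, 32, 12, 352, -24, -112, 100, 113, 44, -223, 12, 16, 4, -175, -28, 32, -20, -81, -36, 112, -20, -2, -12, 79, 16, -32, 12, 32, 32, -47, 12, 1, 16, -16, -12, 18, -4, -1, -20, 0, -4, 0, -12, -2, 4, 0, -4, 0, 12, -1, 4, 2, 8, 0, -4, 1, 4, 1, -8, 0, 0, 0, -4, -1, 4, -2, 0, 0, 0, -1, 0, 0, 0, 1, 0, 0, 0, 1, 0, 1, 0, 0, 0, 0, 0, 0, 0, -1, 0, 0, 0, -1, 0, 1]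
    [2097, 240, -1152, -272, 736, 1700, -1535, -128, -176, 1636, -319, -1100, -143, 336, -32, -860, -415, -332, -575, -832, -496, 212, -463, -800, -768, 832, -160, -156] (-575) (by norm_num) (by norm_num) (by decide) (by decide +kernel)
    (fun x => by simp only [evL, orderZ8, degZ8, List.cons_append, List.nil_append]; ring)
    (by decide +kernel) hq

theorem excl8_5 {q : ℕ} (hq : 9 ≤ q) : ¬(tgt q - 5 ∣ 5 * orderPoly8 q) :=
  excl8 5 4637 [1060, 299, -435, -200, 325, 724, -515, 50, 15, 550, -75, -175, 170, 176, 55, -349, 15, 25, 5, -274, -35, 50, -25, -126, -45, 175, -25, -2, -15, 124, 20, -50, 15, 50, 40, -74, 15, 1, 20, -25, -15, 27, -5, -1, -25, 0, -5, 0, -15, -2, 5, 0, -5, 0, 15, -1, 5, 2, 10, 0, -5, 1, 5, 1, -10, 0, 0, 0, -5, -1, 5, -2, 0, 0, 0, -1, 0, 0, 0, 1, 0, 0, 0, 1, 0, 1, 0, 0, 0, 0, 0, 0, 0, -1, 0, 0, 0, -1, 0, 1]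
    [5301, 435, -2475, -565, 1825, 3295, -3299, -295, -275, 3170, -724, -2185, 1, 600, -50, -1705, -649, -685, -899, -1670, -775, 400, -724, -1585, -1200, 1625, -250, -285] (-899) (by norm_num) (by norm_num) (by decide) (by decide +kernel)
    (fun x => by simp only [evL, orderZ8, degZ8, List.cons_append, List.nil_append]; ring)
    (by decide +kernel) hq

theorem excl8_6 {q : ℕ} (hq : 9 ≤ q) : ¬(tgt q - 6 ∣ 6 * orderPoly8 q) :=
  excl8 6 7940 [1866, 431, -720, -288, 588, 1043, -882, 72, 18, 792, -156, -252, 270, 253, 66, -503, 18, 36, 6, -395, -42, 72, -30, -181, -54, 252, -30, -2, -18, 179, 24, -72, 18, 72, 48, -107, 18, 1, 24, -36, -18, 38, -6, -1, -30, 0, -6, 0, -18, -2, 6, 0, -6, 0, 18, -1, 6, 2, 12, 0, -6, 1, 6, 1, -12, 0, 0, 0, -6, -1, 6, -2, 0, 0, 0, -1, 0, 0, 0, 1, 0, 0, 0, 1, 0, 1, 0, 0, 0, 0, 0, 0, 0, -1, 0, 0, 0, -1, 0, 1]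
    [11197, 720, -4752, -1008, 3816, 5670, -6335, -552, -396, 5454, -1439, -3810, 397, 984, -72, -2970, -935, -1218, -1295, -2928, -1116, 678, -1043, -2760, -1728, 2808, -360, -474] (-1295) (by norm_num) (by norm_num) (by decide) (by decide +kernel)
    (fun x => by simp only [evL, orderZ8, degZ8, List.cons_append, List.nil_append]; ring)
    (by decide +kernel) hq

theorem excl8_7 {q : ℕ} (hq : 9 ≤ q) : ¬(tgt q - 7 ∣ 7 * orderPoly8 q) :=
  excl8 7 12539 [2996, 587, -1113, -392, 959, 1420, -1393, 98, 21, 1078, -273, -343, 406, 344, 77, -685, 21, 49, 7, -538, -49, 98, -35, -246, -63, 343, -35, -2, -21, 244, 28, -98, 21, 98, 56, -146, 21, 1, 28, -49, -21, 51, -7, -1, -35, 0, -7, 0, -21, -2, 7, 0, -7, 0, 21, -1, 7, 2, 14, 0, -7, 1, 7, 1, -14, 0, 0, 0, -7, -1, 7, -2, 0, 0, 0, -1, 0, 0, 0, 1, 0, 0, 0, 1, 0, 1, 0, 0, 0, 0, 0, 0, 0, -1, 0, 0, 0, -1, 0, 1]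
    [20973, 1113, -8379, -1631, 7105, 8981, -11171, -917, -539, 8638, -2596, -6083, 1177, 1512, -98, -4739, -1273, -1967, -1763, -4690, -1519, 1064, -1420, -4403, -2352, 4459, -490, -735] (-1763) (by norm_num) (by norm_num) (by decide) (by decide +kernel)
    (fun x => by simp only [evL, orderZ8, degZ8, List.cons_append, List.nil_append]; ring)
    (by decide +kernel) hq

theorem excl8_8 {q : ℕ} (hq : 9 ≤ q) : ¬(tgt q - 8 ∣ 8 * orderPoly8 q) :=
  excl8 8 18650 [4504, 767, -1632, -512, 1456, 1855, -2072, 128, 24, 1408, -432, -448, 584, 449, 88, -895, 24, 64, 8, -703, -56, 128, -40, -321, -72, 448, -40, -2, -24, 319, 32, -128, 24, 128, 64, -191, 24, 1, 32, -64, -24, 66, -8, -1, -40, 0, -8, 0, -24, -2, 8, 0, -8, 0, 24, -1, 8, 2, 16, 0, -8, 1, 8, 1, -16, 0, 0, 0, -8, -1, 8, -2, 0, 0, 0, -1, 0, 0, 0, 1, 0, 0, 0, 1, 0, 1, 0, 0, 0, 0, 0, 0, 0, -1, 0, 0, 0, -1, 0, 1]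
    [36033, 1632, -13824, -2464, 12160, 13384, -18431, -1408, -704, 12872, -4351, -9112, 2497, 2208, -128, -7096, -1663, -2968, -2303, -7040, -1984, 1576, -1855, -6592, -3072, 6656, -640, -1080] (-2303) (by norm_num) (by norm_num) (by decide) (by decide +kernel)
    (fun x => by simp only [evL, orderZ8, degZ8, List.cons_append, List.nil_append]; ring)
    (by decide +kernel) hq

/-- The checks at the smallest field orders. -/
theorem small_ok8 : ([2, 3, 4, 5, 7, 8].all fun q => allN 9 fun j => Nat.beq j 0 ||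
    !Nat.beq (q ^ 120 * orderPoly8 q % (tgt q - j)) 0) = true := by decide +kernel

/-- No degree just below the bound divides the order. -/
theorem no_exceptions {q d m : ℕ} (hq : IsPrimePow q) (hm : m ∣ q ^ 120 * orderPoly8 q) (hd : d ∣ m)
    (hlo : tgt q ≤ d + 8) (hhi : d < tgt q) : False := by
  obtain ⟨p, a, hp, ha, rfl⟩ := hq
  have hp' := hp.nat_prime
  set q := p ^ a
  have hdvd : d ∣ q ^ 120 * orderPoly8 q := hd.trans hm
  obtain ⟨j, hj1, hj8, rfl⟩ : ∃ j, 1 ≤ j ∧ j ≤ 8 ∧ d = tgt q - j := ⟨tgt q - d, by omega, by omega, by omega⟩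
  have hq2 : 2 ≤ q := le_trans hp'.two_le (Nat.le_self_pow ha.ne' p)
  rcases Nat.lt_or_ge q 9 with hs | hs
  · have h6 : q ≠ 6 := fun e => by
      have : IsPrimePow (6 : ℕ) := e ▸ ⟨p, a, hp, ha, rfl⟩
      exact absurd this (by
        rw [isPrimePow_nat_iff_bounded]
        decide)
    have hmem : q ∈ [2, 3, 4, 5, 7, 8] := by simp; omega
    have := allN_iff.1 (List.all_eq_true.1 small_ok8 q hmem) j (by omega)
    simp only [Bool.or_eq_true, natBeq_eq, decide_eq_true_eq, Bool.not_eq_true', decide_eq_false_iff_not] at this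
    rcases this with e | e
    · omega
    · exact e (Nat.mod_eq_zero_of_dvd hdvd)
  · have hg : Nat.gcd (tgt q - j) (q ^ 120) ∣ j := by
      have h1 : Nat.gcd (tgt q - j) (q ^ 120) ∣ p ^ (a * 120) := by
        rw [pow_mul]; exact Nat.gcd_dvd_right _ _
      obtain ⟨k, hk, e⟩ := (Nat.dvd_prime_pow hp').1 h1
      have hqt : q ∣ tgt q := ⟨(q ^ 12 + 1) * (q ^ 10 + 1) * (q ^ 6 + 1), by rw [tgt]; ring⟩
      have hjt : j ≤ tgt q := by
        have : q ≤ tgt q := Nat.le_of_dvd (by unfold tgt; positivity) hqt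
        omega
      by_cases hka : a ≤ k
      · exfalso
        have h2 : q ∣ tgt q - j := (pow_dvd_pow p hka).trans (e ▸ Nat.gcd_dvd_left _ _)
        have h3 := Nat.dvd_sub hqt h2
        rw [show tgt q - (tgt q - j) = j by omega] at h3
        exact absurd (Nat.le_of_dvd (by omega) h3) (by omega)
      · rw [e]
        have h2 : p ^ k ∣ q := pow_dvd_pow p (by omega)
        have h3 : p ^ k ∣ tgt q - j := e ▸ Nat.gcd_dvd_left _ _
        have h4 := Nat.dvd_sub (h2.trans hqt) h3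
        rwa [show tgt q - (tgt q - j) = j by omega] at h4
    have hfin : tgt q - j ∣ j * orderPoly8 q :=
      (Nat.dvd_gcd (Dvd.intro _ rfl) hdvd).trans (by
        rw [Nat.gcd_mul_right]; exact Nat.mul_dvd_mul_right hg _)
    interval_cases j
    · exact excl8_1 hs hfin
    · exact excl8_2 hs hfin
    · exact excl8_3 hs hfin
    · exact excl8_4 hs hfin
    · exact excl8_5 hs hfin
    · exact excl8_6 hs hfin
    · exact excl8_7 hs hfin
    · exact excl8_8 hs hfin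

end Cfsg.Agent.Lib.E8Deg41
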