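import Cfsg.Agent.Lib.E6Deg41.Simple

/-!
Roots fixing an eigenvector, found one after another from a rigid line.
-/

set_option autoImplicit false

namespace Cfsg.Agent.Lib.E8Deg41

open Cfsg.Lie Cfsg.Agent.Lib.Chev Cfsg.Agent.Lib.E6Deg41 Cfsg.Agent.Lib.E6Deg41.Setup Module

/-- A root shown to fix the vector: a word carrying the base root to it, translations, the roots used, and a
known fixed root going to the base root. -/
structure LearnStep where
  e : ℕ
  w : List ℕ
  P : List (ℕ × ℕ)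
  Z : List ℕ
  x : ℕ

/-- The checks of one step with known fixed roots `K`. -/
def chkLearn (D : ChevalleyDatum) (C : Cert) (b : ℕ) (adj K F₀ : List ℕ) (s : LearnStep) : Bool :=
  let L := (s.e :: b :: s.Z) ++ s.P.map Prod.fst
  let S := adj.map (perm C s.w)
  s.w.all (fun i => Nat.blt i D.rank) && s.Z.all (fun r => K.contains r) && !Nat.beq s.e b &&
  !s.Z.contains b && !s.Z.contains s.e && Nat.blt b D.nroots && F₀.contains s.x && Nat.blt s.x D.nroots &&
  chkMove D C s.e (b :: s.Z) s.Z && chkSplit D C (s.e :: b :: s.Z) (s.P.map Prod.fst) s.Z &&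
  chkTr D C L s.Z s.e [b] s.P && Nat.beq (perm C s.w.reverse s.e) b &&
  chkWord C s.w.reverse s.e (s.e :: S) (b :: adj) && (s.e :: S).all (fun r => Nat.blt r D.nroots) &&
  S.all (fun r => (s.Z.contains r || (s.P.map Prod.fst).contains r) && !Nat.beq r s.e) &&
  Nat.beq (perm C s.w.reverse b) s.x && !Nat.beq s.x b

/-- The checks of a chain of steps. -/
def chkChain (D : ChevalleyDatum) (C : Cert) (b : ℕ) (adj F₀ : List ℕ) : List ℕ → List LearnStep → Bool
  | _, [] => true
  | K, s :: l => chkLearn D C b adj K F₀ s && chkChain D C b adj F₀ (s.e :: K) l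

/-- The roots fixed after a chain. -/
def chainOut : List ℕ → List LearnStep → List ℕ
  | K, [] => K
  | K, s :: l => chainOut (s.e :: K) l

variable {D : ChevalleyDatum} {C : Cert} {F : Type*} [Field F] (X : Setup D C F)
variable {V : Type*} [AddCommGroup V] [Module ℂ V] [Fintype F] [FiniteDimensional ℂ V]
  (π : ↥(D.group F) →* Module.End ℂ V)

/-- One step. -/
theorem learn_step {b : ℕ} {adj K F₀ : List ℕ} {s : LearnStep} (h : chkLearn D C b adj K F₀ s = true)
    (hb : X.FixP π b adj F₀) {t : F} (ht : t ≠ 0) {v : V} (hvb : X.Eig π b t v)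
    (hK : ∀ r ∈ K, X.Eig π r 0 v) : X.Eig π s.e 0 v := by
  classical
  simp only [chkLearn, Bool.and_eq_true, List.all_eq_true, Nat.blt_eq, natBeq_eq, decide_eq_true_eq,
    Bool.not_eq_true', decide_eq_false_iff_not, Bool.or_eq_true, List.contains_iff_mem] at h
  obtain ⟨⟨⟨⟨⟨⟨⟨⟨⟨⟨⟨⟨⟨⟨⟨⟨hw, hZK⟩, heb⟩, hbZ⟩, heZ⟩, hbn⟩, hxF⟩, hxn⟩, hm⟩, hsp⟩, htr⟩, hpe⟩, hwd⟩, hSn⟩, hS⟩,
    hpx⟩, hxb⟩ := h
  simp only [Bool.eq_false_iff, ne_eq, List.contains_iff_mem] at hbZ heZ
  by_contra hcon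
  obtain ⟨c, hc, hne⟩ := X.exists_component_ne π hcon
  let m0 : ℕ → F := fun r => if r = s.e then c else dl b t r
  have hv' : v ∈ X.Es π (b :: s.Z) (dl b t) := fun r hr => by
    rcases List.mem_cons.1 hr with rfl | hr
    · rw [dl_self]; exact hvb
    · rw [dl_ne _ (fun e : r = b => hbZ (e ▸ hr))]; exact hK r (hZK r hr)
  have h1 := X.e_Es π hm hv' (fun a ha => hK a (hZK a ha)) c
  have hw0 : X.e π s.e c v ∈ X.Es π (s.e :: b :: s.Z) m0 := fun r hr => by
    by_cases e : r = s.e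
    · subst e; simpa [m0] using X.e_eig π _ c v
    · simpa [m0, e] using h1 r (by simpa [e] using hr)
  have hm0Z : ∀ a ∈ s.Z, m0 a = 0 := fun a ha => by
    simp [m0, show a ≠ s.e from fun e => heZ (e ▸ ha), dl_ne _ (show a ≠ b from fun e => hbZ (e ▸ ha))]
  obtain ⟨m', w, hw0', he, hwE⟩ := X.split π _ _ hsp
    (fun a ha => List.mem_cons_of_mem _ (List.mem_cons_of_mem _ ha)) m0 hw0 hm0Z hne
  have hme : m' s.e = c := by rw [he _ List.mem_cons_self]; simp [m0]
  have hmZ : ∀ a ∈ s.Z, m' a = 0 := fun a ha => by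
    rw [he a (List.mem_cons_of_mem _ (List.mem_cons_of_mem _ ha))]; exact hm0Z a ha
  obtain ⟨m'', hkeep, hP, hle⟩ := X.translate π
    (fun a ha => List.mem_append_left _ (List.mem_cons_of_mem _ (List.mem_cons_of_mem _ ha))) s.P [b] htr m' hmZ
    (hme ▸ hc) (fun _ => 0)
  have h0 : 0 < finrank ℂ (X.Es π ((s.e :: b :: s.Z) ++ s.P.map Prod.fst) m') :=
    Module.finrank_pos_iff_exists_ne_zero.2 ⟨⟨w, hwE⟩, fun e => hw0' (congrArg Subtype.val e)⟩
  obtain ⟨⟨u, hu⟩, hu0⟩ := Module.finrank_pos_iff_exists_ne_zero.1 (lt_of_lt_of_le h0 hle)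
  have hb'' : m'' b = t := by
    rw [hkeep b (by simp), he b (by simp)]
    simp [m0, Ne.symm heb, dl_self]
  have hu' : u ∈ X.Es π (s.e :: adj.map (perm C s.w)) (dl s.e c) := fun r hr => by
    rcases List.mem_cons.1 hr with rfl | hr
    · rw [dl_self, ← hme, ← hkeep s.e List.mem_cons_self]
      exact hu _ (List.mem_append_left _ List.mem_cons_self)
    · obtain ⟨hin, hne'⟩ := hS r hr
      rw [dl_ne _ hne']
      rcases hin with hin | hin
      · have := hu r (List.mem_append_left _ (List.mem_cons_of_mem _ (List.mem_cons_of_mem _ hin)))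
        rwa [hkeep r (by simp [hin]), hmZ r hin] at this
      · obtain ⟨p, hp, rfl⟩ := List.mem_map.1 hin
        have := hu p.1 (List.mem_append_right _ (List.mem_map.2 ⟨p, hp, rfl⟩))
        rwa [hP p hp] at this
  have hL : IsWord D s.w.reverse := fun i hi => hw i (List.mem_reverse.1 hi)
  have h2 := X.word_mem π hL hSn hwd hu'
  rw [hpe] at h2
  have hc' : (weta C s.w.reverse s.e : F) * c ≠ 0 := mul_ne_zero (weta_ne _ _) hc
  have h3 := hb _ hc' _ h2 s.x (List.mem_cons_of_mem _ hxF)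
  rw [dl_ne _ hxb, ← hpx] at h3
  have h4 := X.eig_of_word π hL hbn h3
  have h5 := hu b (List.mem_append_left _ (by simp))
  rw [hb''] at h5
  exact ht (X.eig_unique π (fun e => hu0 (Subtype.ext e)) h5 h4)

/-- A chain of steps. -/
theorem learn_chain {b : ℕ} {adj F₀ : List ℕ} (hb : X.FixP π b adj F₀) {t : F} (ht : t ≠ 0) {v : V}
    (hvb : X.Eig π b t v) : ∀ (l : List LearnStep) (K : List ℕ), chkChain D C b adj F₀ K l = true →
      (∀ r ∈ K, X.Eig π r 0 v) → ∀ r ∈ chainOut K l, X.Eig π r 0 v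
  | [], _, _, hK => hK
  | s :: l, K, h, hK => by
    simp only [chkChain, Bool.and_eq_true] at h
    refine learn_chain hb ht hvb l (s.e :: K) h.2 fun r hr => ?_
    rcases List.mem_cons.1 hr with rfl | hr
    · exact learn_step X π h.1 hb ht hvb hK
    · exact hK r hr

end Cfsg.Agent.Lib.E8Deg41
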