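import Cfsg.Agent.Lib.E8Deg41.Strata
import Cfsg.Agent.Lib.E8Deg41.Arith
import Cfsg.Agent.Lib.Chars.Integral

/-!
Every nontrivial irreducible representation of `E₈(q)` has degree at least `q (q¹² + 1) (q¹⁰ + 1) (q⁶ + 1)`.
-/

set_option autoImplicit false

namespace Cfsg.Agent.Lib.E8Deg41

open Cfsg.Lie Cfsg.Agent.Lib.Chev Cfsg.Agent.Lib.E6Deg41 Cfsg.Agent.Lib.E6Deg41.Setup Module

variable {F : Type*} [Field F] [Fintype F] (X : Setup chevE8 E8C F)
variable {V : Type*} [AddCommGroup V] [Module ℂ V] [FiniteDimensional ℂ V]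
  (π : ↥(chevE8.group F) →* Module.End ℂ V)

/-- The degree bound. -/
theorem degree_bound (hcard : Nat.card ↥(chevE8.group F) ∣ Fintype.card F ^ 120 * orderPoly8 (Fintype.card F))
    (hdvd : finrank ℂ V ∣ Nat.card ↥(chevE8.group F)) {v₀ : V} (hv₀ : π (X.x 239 1) v₀ ≠ v₀) :
    target8 (Fintype.card F) ≤ finrank ℂ V := by
  rcases top_dichotomy X π Fintype.one_lt_card hv₀ with h | hone
  · exact h
  by_contra hlt
  have hS := strata_bound X π hone
  have hE := strataSum_eq (q := Fintype.card F) Fintype.one_lt_card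
  exact no_exceptions (FiniteField.isPrimePow_card F) hcard hdvd
    (by show target8 _ ≤ _; omega) (by show _ < target8 _; omega)

end Cfsg.Agent.Lib.E8Deg41
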