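import Cfsg.Agent.Lib.E8Deg41.StrataDefs

/-!
Certificate on strata 0 to 19 of `E₈`.
-/

set_option autoImplicit false
set_option maxRecDepth 100000

namespace Cfsg.Agent.Lib.E8Deg41

theorem strata_ok0_0 : chkStrata 0 = true := by decide +kernel

theorem strata_ok0_1 : chkStrata 5 = true := by decide +kernel

theorem strata_ok0_2 : chkStrata 10 = true := by decide +kernel

theorem strata_ok0_3 : chkStrata 15 = true := by decide +kernel

end Cfsg.Agent.Lib.E8Deg41
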