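import Cfsg.Agent.Lib.E8Deg41.StrataDefs

/-!
Certificate on strata 60 to 79 of `E₈`.
-/

set_option autoImplicit false
set_option maxRecDepth 100000

namespace Cfsg.Agent.Lib.E8Deg41

theorem strata_ok3_0 : chkStrata 60 = true := by decide +kernel

theorem strata_ok3_1 : chkStrata 65 = true := by decide +kernel

theorem strata_ok3_2 : chkStrata 70 = true := by decide +kernel

theorem strata_ok3_3 : chkStrata 75 = true := by decide +kernel

end Cfsg.Agent.Lib.E8Deg41
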