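import Cfsg.Agent.Lib.E8Deg41.StrataDefs

/-!
Certificate on strata 80 to 99 of `E₈`.
-/

set_option autoImplicit false
set_option maxRecDepth 100000

namespace Cfsg.Agent.Lib.E8Deg41

theorem strata_ok4_0 : chkStrata 80 = true := by decide +kernel

theorem strata_ok4_1 : chkStrata 85 = true := by decide +kernel

theorem strata_ok4_2 : chkStrata 90 = true := by decide +kernel

theorem strata_ok4_3 : chkStrata 95 = true := by decide +kernel

end Cfsg.Agent.Lib.E8Deg41
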