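import Cfsg.Agent.Lib.E8Deg41.Vectors
import Cfsg.Agent.Lib.E8Deg41.StrataOK0
import Cfsg.Agent.Lib.E8Deg41.StrataOK1
import Cfsg.Agent.Lib.E8Deg41.StrataOK2
import Cfsg.Agent.Lib.E8Deg41.StrataOK3
import Cfsg.Agent.Lib.E8Deg41.StrataOK4
import Cfsg.Agent.Lib.E8Deg41.StrataOK5

/-!
Every positive root contributes `(q - 1) q ^ (ht - 1)` to the dimension.
-/

set_option autoImplicit false
set_option maxRecDepth 100000

namespace Cfsg.Agent.Lib.E8Deg41

open Cfsg.Lie Cfsg.Agent.Lib.Chev Cfsg.Agent.Lib.E6Deg41 Cfsg.Agent.Lib.E6Deg41.Setup Module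

theorem strata_ok {j : ℕ} (hj : j < 120) : chkStratum j (120 + j) (aboveS (120 + j)) = true := by
  have key : ∀ o, chkStrata o = true → o ≤ j → j < o + 5 → chkStratum j (120 + j) (aboveS (120 + j)) = true := by
    intro o h h1 h2
    have := allN_iff.1 h (j - o) (by omega)
    rwa [show o + (j - o) = j by omega] at this
  by_cases h0 : j < 5
  · exact key 0 strata_ok0_0 (by omega) h0
  by_cases h1 : j < 10
  · exact key 5 strata_ok0_1 (by omega) h1
  by_cases h2 : j < 15
  · exact key 10 strata_ok0_2 (by omega) h2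
  by_cases h3 : j < 20
  · exact key 15 strata_ok0_3 (by omega) h3
  by_cases h4 : j < 25
  · exact key 20 strata_ok1_0 (by omega) h4
  by_cases h5 : j < 30
  · exact key 25 strata_ok1_1 (by omega) h5
  by_cases h6 : j < 35
  · exact key 30 strata_ok1_2 (by omega) h6
  by_cases h7 : j < 40
  · exact key 35 strata_ok1_3 (by omega) h7
  by_cases h8 : j < 45
  · exact key 40 strata_ok2_0 (by omega) h8
  by_cases h9 : j < 50
  · exact key 45 strata_ok2_1 (by omega) h9
  by_cases h10 : j < 55
  · exact key 50 strata_ok2_2 (by omega) h10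
  by_cases h11 : j < 60
  · exact key 55 strata_ok2_3 (by omega) h11
  by_cases h12 : j < 65
  · exact key 60 strata_ok3_0 (by omega) h12
  by_cases h13 : j < 70
  · exact key 65 strata_ok3_1 (by omega) h13
  by_cases h14 : j < 75
  · exact key 70 strata_ok3_2 (by omega) h14
  by_cases h15 : j < 80
  · exact key 75 strata_ok3_3 (by omega) h15
  by_cases h16 : j < 85
  · exact key 80 strata_ok4_0 (by omega) h16
  by_cases h17 : j < 90
  · exact key 85 strata_ok4_1 (by omega) h17
  by_cases h18 : j < 95
  · exact key 90 strata_ok4_2 (by omega) h18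
  by_cases h19 : j < 100
  · exact key 95 strata_ok4_3 (by omega) h19
  by_cases h20 : j < 105
  · exact key 100 strata_ok5_0 (by omega) h20
  by_cases h21 : j < 110
  · exact key 105 strata_ok5_1 (by omega) h21
  by_cases h22 : j < 115
  · exact key 110 strata_ok5_2 (by omega) h22
  by_cases h23 : j < 120
  · exact key 115 strata_ok5_3 (by omega) h23
  omega

theorem lens_eq : ((List.range 120).map fun i => (stratum i).1.length) =
    [0, 0, 1, 0, 1, 2, 0, 1, 2, 3, 0, 1, 2, 3, 4, 0, 1, 2, 3, 4, 5, 0, 1, 2, 3, 4, 5, 2, 3, 4, 5, 6, 4, 5, 6, 7, 6, 7, 8, 8, 9, 10, 0, 1, 2, 3, 4, 5, 6, 3, 4, 5, 6, 7, 5, 6, 7, 8, 7, 8, 9, 9, 10, 11, 6, 7, 8, 9, 8, 9, 10, 10, 11, 12, 9, 10, 11, 11, 12, 13, 12, 13, 14, 15, 10, 11, 12, 12, 13, 14, 13, 14, 15, 16, 14, 15, 16, 17, 18, 15, 16, 17, 18, 19, 20, 21, 16, 17, 18, 19, 20, 21, 22, 22, 23, 24, 25, 26, 27, 28] := by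
  decide +kernel

/-- The sum over the strata. -/
def strataSum (q j : ℕ) : ℕ := ∑ i ∈ Finset.range j, (q - 1) * q ^ (stratum i).1.length

theorem strataSum_eq {q : ℕ} (hq : 2 ≤ q) : strataSum q 120 + 8 = target8 q := by
  have e : strataSum q 120 =
      ((((List.range 120).map fun i => (stratum i).1.length)).map fun n => (q - 1) * q ^ n).sum := by
    rw [List.map_map]; rfl
  rw [e, lens_eq, target8]
  obtain ⟨r, rfl⟩ : ∃ r, q = r + 1 := ⟨q - 1, by omega⟩
  simp only [List.map_cons, List.map_nil, List.sum_cons, List.sum_nil, Nat.add_sub_cancel]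
  ring

variable {F : Type*} [Field F] [Fintype F] (X : Setup chevE8 E8C F)
variable {V : Type*} [AddCommGroup V] [Module ℂ V] [FiniteDimensional ℂ V]
  (π : ↥(chevE8.group F) →* Module.End ℂ V)

variable (hone : ∀ t : F, t ≠ 0 → finrank ℂ (X.Es π topA (dl 239 t)) = 1 ∧
  X.Es π topL (dl 239 t) ≤ X.Es π topA (dl 239 t))
include hone

/-- The dimension of a stratum. -/
theorem stratum_bound {j : ℕ} (hj : j < 120) {t : F} (ht : t ≠ 0) :
    Fintype.card F ^ (stratum j).1.length ≤
      finrank ℂ (X.Es π ((120 + j) :: aboveS (120 + j)) (dl (120 + j) t)) := by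
  classical
  set b := 120 + j
  have hc := strata_ok hj
  simp only [chkStratum, Bool.and_eq_true, decide_eq_true_eq, Bool.not_eq_true'] at hc
  obtain ⟨⟨⟨⟨hsplit, htr⟩, hnd⟩, -⟩, hbb⟩ := hc
  simp only [Bool.eq_false_iff, ne_eq, List.contains_iff_mem] at hbb
  obtain ⟨v, hv0, hv⟩ := ex_pos X π hone b (List.mem_range'_1.2 (by show 120 ≤ b ∧ b < 120 + 120; omega)) t ht
  obtain ⟨m, w, hw0, hm, hw⟩ := X.split π (stratumK j) (b :: aboveS b) hsplit
    (fun a ha => List.mem_cons_of_mem _ ha) (dl b t) hv
    (fun a ha => dl_ne _ fun (e : a = b) => hbb (by subst e; exact ha)) hv0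
  have hmb : m b = t := by rw [hm b List.mem_cons_self, dl_self]
  have hmZ : ∀ a ∈ aboveS b, m a = 0 := fun a ha => by
    rw [hm a (List.mem_cons_of_mem _ ha), dl_ne _ fun (e : a = b) => hbb (by subst e; exact ha)]
  set P := (stratum j).1.map Prod.fst
  choose m' hm'keep hm'P hm'le using fun g : Fin P.length → F =>
    X.translate π (fun a ha => List.mem_append_left _ (List.mem_cons_of_mem _ ha)) (stratum j).1 [] htr m hmZ
      (hmb ▸ ht) (valAt P g)
  have h1 : 0 < finrank ℂ (X.Es π ((b :: aboveS b) ++ stratumK j) m) :=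
    Module.finrank_pos_iff_exists_ne_zero.2 ⟨⟨w, hw⟩, fun e => hw0 (congrArg Subtype.val e)⟩
  refine le_trans ?_ (X.sep π ((b :: aboveS b) ++ stratumK j) m'
    (fun g => X.Es π ((b :: aboveS b) ++ stratumK j) (m' g)) (X.Es π (b :: aboveS b) (dl b t)) (fun g => ?_) ?_)
  · have := Finset.sum_le_sum (s := (Finset.univ : Finset (Fin P.length → F))) fun g _ =>
      (show 1 ≤ finrank ℂ (X.Es π ((b :: aboveS b) ++ stratumK j) (m' g)) from le_trans h1 (hm'le g))
    simpa [Finset.sum_const, Fintype.card_pi, P] using this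
  · refine le_inf le_rfl fun u hu r hr => ?_
    have := hu r (List.mem_append_left _ hr)
    rwa [hm'keep g r (by simpa using hr), hm r hr] at this
  · intro g g' h
    funext i
    obtain ⟨p, hp, he⟩ := List.mem_map.1 (List.getElem_mem i.2)
    have e := h (P[i.val]'i.2) (List.mem_append_right _ (List.mem_append_left _ (List.getElem_mem i.2)))
    rw [← he, hm'P g p hp, hm'P g' p hp, he, valAt_apply hnd, valAt_apply hnd] at e
    exact e

/-- The strata bound the dimension. -/
theorem strata_bound : strataSum (Fintype.card F) 120 ≤ finrank ℂ V := by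
  classical
  have key : ∀ j ≤ 120, strataSum (Fintype.card F) j ≤
      finrank ℂ (X.Es π (List.range' (120 + j) (120 - j)) (fun _ => 0)) := by
    intro j
    induction j with
    | zero => intro _; simp [strataSum]
    | succ j ih =>
      intro hj
      have hj' : j < 120 := hj
      set b := 120 + j
      have hc := strata_ok hj'
      simp only [chkStratum, Bool.and_eq_true, List.all_eq_true, Bool.not_eq_true', List.contains_iff_mem] at hc
      obtain ⟨⟨-, hsub⟩, hbb⟩ := hc
      simp only [Bool.eq_false_iff, ne_eq, List.contains_iff_mem] at hbb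
      let W : F → Submodule ℂ V := fun c =>
        if c = 0 then X.Es π (List.range' b (120 - j)) (fun _ => 0) else X.Es π (b :: aboveS b) (dl b c)
      have hW : ∀ c, W c ≤ X.Es π [b] (dl b c) ⊓ X.Es π (List.range' (120 + (j + 1)) (120 - (j + 1))) (fun _ => 0) := by
        intro c
        refine le_inf (fun v hv r hr => ?_) (fun v hv r hr => ?_)
        · rw [List.mem_singleton] at hr; subst hr
          by_cases hc : c = 0
          · subst hc
            simp only [W, if_pos] at hv
            rw [dl_self]; exact hv b (List.mem_range'_1.2 (by omega))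
          · simp only [W, if_neg hc] at hv
            exact hv b List.mem_cons_self
        · have hr' := List.mem_range'_1.1 hr
          by_cases hc : c = 0
          · subst hc
            simp only [W, if_pos] at hv
            exact hv r (List.mem_range'_1.2 (by omega))
          · simp only [W, if_neg hc] at hv
            have hra : r ∈ aboveS b := hsub r (List.mem_range'_1.2 (by omega))
            have := hv r (List.mem_cons_of_mem _ hra)
            rwa [dl_ne _ (fun e : r = b => hbb (by subst e; exact hra))] at this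
      refine le_trans ?_ (X.sep π [b] (fun c => dl b c) W _ hW fun c c' h => by
        simpa [dl_self] using h b (List.mem_singleton.2 rfl))
      rw [strataSum, Finset.sum_range_succ, ← Finset.add_sum_erase _ _ (Finset.mem_univ (0 : F))]
      refine add_le_add ((ih (by omega)).trans
        (le_of_eq (congrArg (fun U : Submodule ℂ V => finrank ℂ U) (if_pos rfl).symm))) ?_
      refine le_trans ?_ (Finset.card_nsmul_le_sum _ _ (Fintype.card F ^ (stratum j).1.length) fun c hc => ?_)
      · simp [Finset.card_erase_of_mem]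
      · have hc0 : c ≠ 0 := Finset.ne_of_mem_erase hc
        rw [show W c = X.Es π (b :: aboveS b) (dl b c) from if_neg hc0]
        exact stratum_bound X π hone hj' hc0
  exact (key 120 le_rfl).trans (Submodule.finrank_le _)

end Cfsg.Agent.Lib.E8Deg41
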