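import Cfsg.Agent.Lib.E8Deg41.Certs
import Cfsg.Agent.Lib.E8Deg41.StrataData

/-!
The checks on the strata of `E₈`.
-/

set_option autoImplicit false

namespace Cfsg.Agent.Lib.E8Deg41

open Cfsg.Lie Cfsg.Agent.Lib.Chev Cfsg.Agent.Lib.E6Deg41

/-- The stratum of the `j`th positive root. -/
def stratum (j : ℕ) : List (ℕ × ℕ) × List ℕ := strata.getD j ([], [])

/-- The translated and the other roots of a stratum. -/
def stratumK (j : ℕ) : List ℕ := (stratum j).1.map Prod.fst ++ (stratum j).2

/-- The positive roots not below `b`. -/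
def aboveS (b : ℕ) : List ℕ :=
  (posL chevE8).filter fun r => !allN 8 fun j => decide (coef chevE8 E8C j r ≤ coef chevE8 E8C j b)

/-- The checks of one stratum, given its list of roots not below. -/
def chkStratum (j b : ℕ) (Z : List ℕ) : Bool :=
  chkSplit chevE8 E8C (b :: Z) (stratumK j) Z &&
  chkTr chevE8 E8C ((b :: Z) ++ stratumK j) Z b [] (stratum j).1 &&
  decide (((stratum j).1.map Prod.fst).Nodup) &&
  (List.range' (121 + j) (119 - j)).all (fun r => Z.contains r) && !Z.contains b

/-- The checks of five strata. -/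
def chkStrata (o : ℕ) : Bool := allN 5 fun i => chkStratum (o + i) (120 + (o + i)) (aboveS (120 + (o + i)))

end Cfsg.Agent.Lib.E8Deg41
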