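import Cfsg.Agent.Lib.E8Deg41.Certs

/-!
The characters of the abelian subsystem: a small representation has one character per orbit.
-/

set_option autoImplicit false

namespace Cfsg.Agent.Lib.E8Deg41

open Cfsg.Lie Cfsg.Agent.Lib.Chev Cfsg.Agent.Lib.E6Deg41 Cfsg.Agent.Lib.E6Deg41.Setup Module

/-- The bound. -/
def target8 (q : ℕ) : ℕ := q * (q ^ 12 + 1) * (q ^ 10 + 1) * (q ^ 6 + 1)

theorem target8_le {q : ℕ} (hq : 2 ≤ q) :
    target8 q ≤ 2 * ((q - 1) * (q ^ 28 + q ^ 27)) ∧ target8 q ≤ q ^ 30 := by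
  obtain ⟨r, rfl⟩ : ∃ r, q = r + 2 := ⟨q - 2, by omega⟩
  rw [show r + 2 - 1 = r + 1 by omega, target8]
  constructor
  · ring_nf; omega
  · ring_nf; omega

/-- The roots adjacent to the highest root. -/
def adjL : List ℕ := topP.map Prod.fst

theorem adjL_length : adjL.length = 28 := by decide

theorem adjL_nodup : adjL.Nodup := by decide

theorem adjL_zero : adjL[0]'(by decide) = 238 := by decide

theorem adjL_facts : 239 ∈ topA ∧ 239 ∉ adjL ∧ (∀ r ∈ adjL, r ∈ topA) ∧ (∀ r ∈ resL, r ∉ adjL ∧ r ≠ 239) ∧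
    (∀ r ∈ topA, r < 240 ∧ (r = 239 ∨ r ∈ adjL ∨ r ∈ resL)) := by
  refine ⟨by decide, by decide, ?_, ?_, ?_⟩
  · decide
  · decide
  · decide

variable {F : Type*} [Field F] (X : Setup chevE8 E8C F)

/-- Values on a list. -/
def valAt (L : List ℕ) (g : Fin L.length → F) (r : ℕ) : F :=
  if h : L.idxOf r < L.length then g ⟨L.idxOf r, h⟩ else 0

theorem valAt_apply {L : List ℕ} (hL : L.Nodup) (g : Fin L.length → F) (i : Fin L.length) :
    valAt L g (L[i.val]'i.2) = g i := by
  have h := hL.idxOf_getElem i.val i.2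
  simp [valAt, h]

variable [Fintype F] {V : Type*} [AddCommGroup V] [Module ℂ V] [FiniteDimensional ℂ V]
  (π : ↥(chevE8.group F) →* Module.End ℂ V)

/-- Translation on `topA` or on `topL`. -/
theorem translate_top {L : List ℕ} (h : chkTr chevE8 E8C L [] 239 [] topP = true) {m : ℕ → F} (hm : m 239 ≠ 0)
    (g : ℕ → F) : ∃ m' : ℕ → F, m' 239 = m 239 ∧ (∀ r ∈ adjL, m' r = g r) ∧
      finrank ℂ (X.Es π L m) ≤ finrank ℂ (X.Es π L m') := by
  obtain ⟨m', h1, h2, h3⟩ := X.translate π (by simp) topP [] h m (by simp) hm g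
  refine ⟨m', h1 239 (by simp), fun r hr => ?_, h3⟩
  obtain ⟨p, hp, rfl⟩ := List.mem_map.1 hr
  exact h2 p hp

omit [Fintype F] [FiniteDimensional ℂ V] in
theorem topL_sub {r : ℕ} (hr : r ∈ topL) : r = 239 ∨ r ∈ adjL := List.mem_cons.1 hr

/-- All characters of the adjacent roots follow the highest root. -/
theorem adj_bound (t : F) (ht : t ≠ 0) :
    Fintype.card F ^ 28 * finrank ℂ (X.Es π topL (dl 239 t)) ≤ finrank ℂ V := by
  classical
  have htr := tr_top
  rw [Bool.and_eq_true] at htr
  choose m hm239 hmg hle using fun g : Fin adjL.length → F =>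
    translate_top X π htr.1 (m := dl 239 t) (by rwa [dl_self]) (valAt adjL g)
  refine le_trans ?_ ((X.sep π topL m (fun g => X.Es π topL (m g)) ⊤ (fun g => le_inf le_rfl le_top) ?_).trans
    (finrank_top ℂ V).le)
  · have h := Finset.sum_le_sum (s := (Finset.univ : Finset (Fin adjL.length → F))) fun g _ => hle g
    simpa [Finset.sum_const, Fintype.card_pi, adjL_length] using h
  · intro g g' h
    funext i
    have h1 := h adjL[i] (List.mem_cons_of_mem _ (List.getElem_mem i.2))
    simp only [Fin.getElem_fin] at h1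
    rwa [hmg g _ (List.getElem_mem i.2), hmg g' _ (List.getElem_mem i.2), valAt_apply adjL_nodup,
      valAt_apply adjL_nodup] at h1

/-- A character with a residual coordinate gives at least `q²` characters. -/
theorem residual_bound {t : F} {m : ℕ → F} (h239 : m 239 = t) (hadj : ∀ r ∈ adjL, m r = 0)
    {a : ℕ} (ha : a ∈ resL) (hma : m a ≠ 0) (hne : X.Es π topA m ≠ ⊥) :
    Fintype.card F ^ 2 ≤ finrank ℂ (X.Es π topL (dl 239 t)) := by
  classical
  obtain ⟨h239A, h239adj, hadjA, hres, hA⟩ := adjL_facts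
  obtain ⟨⟨a', b1, η1, b2, η2⟩, hp, he⟩ := List.any_eq_true.1 (List.all_eq_true.1 res_cover a ha)
  rw [natBeq_eq, decide_eq_true_eq] at he
  obtain rfl : a' = a := he
  have hc := List.all_eq_true.1 res_ok _ hp
  simp only [Bool.and_eq_true, List.all_eq_true, List.contains_iff_mem, Bool.not_eq_true', natBeq_eq,
    decide_eq_false_iff_not] at hc
  obtain ⟨⟨⟨⟨⟨⟨⟨⟨haA, hb1⟩, hb2⟩, hab1⟩, hab2⟩, hb12⟩, hmv1⟩, hmv2⟩, htab⟩ := hc
  have hb1A : b1 ∈ topA := by
    have : ∀ r ∈ resL, r ∈ topA := by decide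
    exact this b1 hb1
  have hb2A : b2 ∈ topA := by
    have : ∀ r ∈ resL, r ∈ topA := by decide
    exact this b2 hb2
  have key : ∀ (m : ℕ → F), (∀ r ∈ adjL, m r = 0) → ∀ (η b : ℕ),
      (∀ r ∈ topA, (bif decide (r = b) then sm E8C η r == some a' else into E8C η r (topP.map Prod.fst)) = true) →
      ∀ s, ∀ r ∈ topA, shM E8C η s m r = if r = b then m b - (Nc E8C η b : F) * s * m a' else m r := by
    intro m hm η b h s r hr
    have := h r hr
    by_cases e : r = b
    · subst e
      rw [show decide (r = r) = true by simp] at this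
      rw [if_pos rfl]
      exact shM_some (by simpa using this) s m
    · rw [show decide (r = b) = false by simp [e]] at this
      rw [if_neg e]
      exact shM_keep (fun x hx => hm x (into_iff.1 this x hx)) s
  have hof : ∀ r ∈ adjL, r ∈ topA ∧ r ≠ b1 ∧ r ≠ b2 := fun r hr =>
    ⟨hadjA r hr, fun e => (hres b1 hb1).1 (e ▸ hr), fun e => (hres b2 hb2).1 (e ▸ hr)⟩
  have k1 := key m hadj η1 b1 (fun r hr => (htab r hr).1)
  have hadj1 : ∀ s, ∀ r ∈ adjL, shM E8C η1 s m r = 0 := fun s r hr => by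
    rw [k1 s r (hof r hr).1, if_neg (hof r hr).2.1, hadj r hr]
  have k2 := fun s => key (shM E8C η1 s m) (hadj1 s) η2 b2 (fun r hr => (htab r hr).2)
  let M : F × F → ℕ → F := fun s => shM E8C η2 s.2 (shM E8C η1 s.1 m)
  have hN : (Nc E8C η1 b1 : F) ≠ 0 ∧ (Nc E8C η2 b2 : F) ≠ 0 := by
    obtain ⟨h1, h1'⟩ := chkMove_iff.1 hmv1
    obtain ⟨h2, h2'⟩ := chkMove_iff.1 hmv2
    exact ⟨(X.Nc_unit h1 (h1' b1 hb1A).1 (h1' b1 hb1A).2.1 (by simpa using (htab b1 hb1A).1)).2,
      (X.Nc_unit h2 (h2' b2 hb2A).1 (h2' b2 hb2A).2.1 (by simpa using (htab b2 hb2A).2)).2⟩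
  have hpos : 1 ≤ finrank ℂ (X.Es π topA m) := by
    rcases Nat.eq_zero_or_pos (finrank ℂ (X.Es π topA m)) with e | e
    · exact absurd (Submodule.finrank_eq_zero.1 e) hne
    · exact e
  have hW : ∀ s, X.Es π topA (M s) ≤ X.Es π topA (M s) ⊓ X.Es π topL (dl 239 t) := by
    intro s
    refine le_inf le_rfl fun v hv r hr => ?_
    have hrA : r ∈ topA := by
      rcases topL_sub hr with rfl | h
      · exact h239A
      · exact hadjA r h
    have hr1 : r ≠ b1 ∧ r ≠ b2 := by
      rcases topL_sub hr with rfl | h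
      · exact ⟨fun e => (hres b1 hb1).2 e.symm, fun e => (hres b2 hb2).2 e.symm⟩
      · exact (hof r h).2
    have : dl 239 t r = M s r := by
      show _ = shM E8C η2 s.2 (shM E8C η1 s.1 m) r
      rw [k2 _ _ r hrA, if_neg hr1.2, k1 _ r hrA, if_neg hr1.1]
      rcases topL_sub hr with rfl | h
      · rw [dl_self, h239]
      · rw [dl_ne _ (fun e : r = 239 => h239adj (e ▸ h)), hadj r h]
    rw [this]
    exact hv r hrA
  refine le_trans ?_ (X.sep π topA M (fun s => X.Es π topA (M s)) (X.Es π topL (dl 239 t)) hW ?_)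
  · have hle : ∀ s ∈ (Finset.univ : Finset (F × F)), 1 ≤ finrank ℂ (X.Es π topA (M s)) := fun s _ =>
      hpos.trans ((finrank_le_of_map π (X.x η1 s.1) fun v hv => X.move_mem π hmv1 s.1 hv).trans
        (finrank_le_of_map π (X.x η2 s.2) fun v hv => X.move_mem π hmv2 s.2 hv))
    have h := Finset.sum_le_sum hle
    simpa [pow_two] using h
  · intro s s' h
    have e1 := h b1 hb1A
    have e2 := h b2 hb2A
    simp only [M, k2 _ _ b1 hb1A, k2 _ _ b2 hb2A, if_neg hb12, if_pos, k1 _ b1 hb1A, k1 _ b2 hb2A,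
      if_neg (Ne.symm hb12), k1 _ a' haA, if_neg hab1] at e1 e2
    exact Prod.ext (mul_left_cancel₀ hN.1 (mul_right_cancel₀ hma (sub_right_injective e1)))
      (mul_left_cancel₀ hN.2 (mul_right_cancel₀ hma (sub_right_injective e2)))

/-- Without residual coordinates the residual roots act trivially. -/
theorem topL_le {t : F} (hno : ∀ m : ℕ → F, m 239 = t → (∀ r ∈ adjL, m r = 0) →
    X.Es π topA m ≠ ⊥ → ∀ a ∈ resL, m a = 0) :
    X.Es π topL (dl 239 t) ≤ X.Es π topA (dl 239 t) := fun v hv r hr => by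
  classical
  obtain ⟨h239A, h239adj, hadjA, hres, hA⟩ := adjL_facts
  rcases (hA r hr).2 with rfl | h | hresr
  · exact hv _ List.mem_cons_self
  · exact hv r (List.mem_cons_of_mem _ h)
  rw [dl_ne _ (hres r hresr).2]
  by_contra hcon
  obtain ⟨c, hc, hne⟩ := X.exists_component_ne π hcon
  have hchk := List.all_eq_true.1 split_res r hresr
  rw [Bool.and_eq_true] at hchk
  let m1 : ℕ → F := fun s => if s = r then c else dl 239 t s
  have h1 := X.e_Es π hchk.1 hv (Z := []) (by simp) c
  have hw1 : X.e π r c v ∈ X.Es π (topL ++ [r]) m1 := fun s hs => by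
    by_cases e : s = r
    · subst e; simpa [m1] using X.e_eig π s c v
    · have hsL : s ∈ topL := by simpa [e] using hs
      simpa [m1, e] using h1 s hsL
  obtain ⟨m', w, hw0, he, hw⟩ := X.split π topA (topL ++ [r]) hchk.2 (by simp) m1 hw1 (by simp) hne
  have hv239 : m' 239 = t := by
    rw [he 239 (List.mem_append_left _ List.mem_cons_self)]
    simp [m1, show (239 : ℕ) ≠ r from (hres r hresr).2.symm, dl_self]
  have := hno m' hv239 (fun s hs => by
      rw [he s (List.mem_append_left _ (List.mem_cons_of_mem _ hs))]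
      simp [m1, show s ≠ r from fun e => (hres r hresr).1 (e ▸ hs),
        dl_ne _ (show s ≠ 239 from fun e => h239adj (e ▸ hs))])
    (fun e => hw0 ((Submodule.eq_bot_iff _).1 e w (X.Es_mono π (fun s hs => List.mem_append_right _ hs) m' hw)))
    r hresr
  rw [he r (by simp)] at this
  exact hc (by simpa [m1] using this)

/-- The character on the highest root and on its neighbour `238`. -/
def pr (t d : F) (r : ℕ) : F := if r = 239 then t else if r = 238 then d else 0

omit [Fintype F] in
/-- The multiplicity does not depend on the value at the highest root. -/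
theorem top_const {t t' : F} (ht : t ≠ 0) (ht' : t' ≠ 0) :
    finrank ℂ (X.Es π topA (dl 239 t)) ≤ finrank ℂ (X.Es π topA (dl 239 t')) := by
  have hc := shift_pair
  simp only [Bool.and_eq_true, List.all_eq_true] at hc
  obtain ⟨⟨hm120, hm119⟩, htab⟩ := hc
  have k120 : ∀ (s t d : F), ∀ r ∈ topA,
      shM E8C 120 s (pr t d) r = pr t (d - (Nc E8C 120 238 : F) * s * t) r := by
    intro s t d r hr
    have h := (htab r hr).1
    by_cases e : r = 238
    · subst e
      rw [show Nat.beq 238 238 = true by rfl] at h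
      rw [shM_some (by simpa using h)]
      simp [pr]
    · rw [show Nat.beq r 238 = false by simpa [natBeq_eq] using e] at h
      simp only [cond_false, Bool.and_eq_true, Bool.not_eq_true', beq_eq_false_iff_ne, ne_eq] at h
      rw [shM_keep]
      · simp [pr, e]
      · intro a ha
        have h1 : a ≠ 238 := fun e' => h.1 (e' ▸ ha)
        have h2 : a ≠ 239 := fun e' => h.2 (e' ▸ ha)
        simp [pr, h1, h2]
  have k119 : ∀ (s t d : F), ∀ r ∈ topA,
      shM E8C 119 s (pr t d) r = pr (t - (Nc E8C 119 239 : F) * s * d) d r := by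
    intro s t d r hr
    have h := (htab r hr).2
    by_cases e : r = 239
    · subst e
      rw [show Nat.beq 239 239 = true by rfl] at h
      rw [shM_some (by simpa using h)]
      simp [pr]
    · rw [show Nat.beq r 239 = false by simpa [natBeq_eq] using e] at h
      simp only [cond_false, Bool.and_eq_true, Bool.not_eq_true', beq_eq_false_iff_ne, ne_eq] at h
      rw [shM_keep]
      · simp [pr, e]
      · intro a ha
        have h1 : a ≠ 238 := fun e' => h.1 (e' ▸ ha)
        have h2 : a ≠ 239 := fun e' => h.2 (e' ▸ ha)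
        simp [pr, h1, h2]
  have hn120 : (Nc E8C 120 238 : F) ≠ 0 :=
    (X.Nc_unit (a := 239) (show 120 < chevE8.nroots by decide) (show 238 < chevE8.nroots by decide)
      (by decide +kernel) (by decide +kernel)).2
  have hn119 : (Nc E8C 119 239 : F) ≠ 0 :=
    (X.Nc_unit (a := 238) (show 119 < chevE8.nroots by decide) (show 239 < chevE8.nroots by decide)
      (by decide +kernel) (by decide +kernel)).2
  have step : ∀ (η : ℕ) (s : F) {m m' : ℕ → F}, chkMove chevE8 E8C η topA topA = true →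
      (∀ r ∈ topA, shM E8C η s m r = m' r) → finrank ℂ (X.Es π topA m) ≤ finrank ℂ (X.Es π topA m') :=
    fun η s m m' hη h => finrank_le_of_map π (X.x η s) fun v hv => X.Es_congr π h ▸ X.move_mem π hη s hv
  have hpr : ∀ (u : F), dl 239 u = pr u 0 := fun u => funext fun r => by
    unfold dl pr; split_ifs <;> rfl
  rw [hpr, hpr]
  refine (step 120 (-(1 / ((Nc E8C 120 238 : F) * t))) (m' := pr t 1) hm120 fun r hr => ?_).trans
    ((step 119 ((t - t') / (Nc E8C 119 239 : F)) (m' := pr t' 1) hm119 fun r hr => ?_).trans ?_)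
  · rw [k120 _ _ _ r hr]; congr 1; field_simp; ring
  · rw [k119 _ _ _ r hr]; congr 1; field_simp; ring
  · refine step 120 (1 / ((Nc E8C 120 238 : F) * t')) hm120 fun r hr => ?_
    rw [k120 _ _ _ r hr]; congr 1; field_simp; ring

/-- Either the bound holds or every character of `topA` at the highest root occurs once. -/
theorem top_dichotomy (hq : 2 ≤ Fintype.card F) {t₀ : F} {v₀ : V} (hv₀ : π (X.x 239 t₀) v₀ ≠ v₀) :
    target8 (Fintype.card F) ≤ finrank ℂ V ∨ ∀ t : F, t ≠ 0 →
      finrank ℂ (X.Es π topA (dl 239 t)) = 1 ∧ X.Es π topL (dl 239 t) ≤ X.Es π topA (dl 239 t) := by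
  classical
  obtain ⟨h239A, h239adj, hadjA, hres', hA⟩ := adjL_facts
  obtain ⟨htg1, htg2⟩ := target8_le hq
  have htr := tr_top
  rw [Bool.and_eq_true] at htr
  by_cases hI : ∃ (t : F) (m : ℕ → F) (a : ℕ), t ≠ 0 ∧ m 239 = t ∧ (∀ r ∈ adjL, m r = 0) ∧
      a ∈ resL ∧ m a ≠ 0 ∧ X.Es π topA m ≠ ⊥
  · obtain ⟨t, m, a, ht, h239, hadj, ha, hma, hne⟩ := hI
    refine Or.inl (le_trans htg2 (le_trans ?_ (adj_bound X π t ht)))
    rw [show (Fintype.card F) ^ 30 = Fintype.card F ^ 28 * Fintype.card F ^ 2 by ring]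
    exact Nat.mul_le_mul_left _ (residual_bound X π h239 hadj ha hma hne)
  push Not at hI
  have hle : ∀ t : F, t ≠ 0 → X.Es π topL (dl 239 t) ≤ X.Es π topA (dl 239 t) := fun t ht =>
    topL_le X π fun m h239 hadj hne a ha => by_contra fun hma => hne (hI t m a ht h239 hadj ha hma)
  have hfix : ¬X.Eig π 239 0 v₀ := fun e => hv₀ ((X.eig_zero_iff π).1 e t₀)
  obtain ⟨t₁, ht₁, hw⟩ := X.exists_component_ne π hfix
  obtain ⟨m', w, hw0, he, hwE⟩ := X.split π topA [239] split_topA (by simp) (dl 239 t₁)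
    (v := X.e π 239 t₁ v₀) (fun r hr => by
      rw [List.mem_singleton] at hr; subst hr; rw [dl_self]; exact X.e_eig π 239 t₁ v₀) (by simp) hw
  have h239 : m' 239 = t₁ := by rw [he 239 (List.mem_singleton.2 rfl), dl_self]
  obtain ⟨m'', hm239, hmadj, hmle⟩ := translate_top X π htr.2 (m := m') (h239 ▸ ht₁) (fun _ => 0)
  have hmem : w ∈ X.Es π topA m' := X.Es_mono π (fun s hs => List.mem_append_right _ hs) m' hwE
  have hw1 : 0 < finrank ℂ (X.Es π topA m') :=
    Module.finrank_pos_iff_exists_ne_zero.2 ⟨⟨w, hmem⟩, fun e => hw0 (congrArg Subtype.val e)⟩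
  have hres : ∀ a ∈ resL, m'' a = 0 := fun a ha => by_contra fun hma => by
    have h0 := hI t₁ m'' a ht₁ (hm239.trans h239) hmadj ha hma
    rw [h0, finrank_bot] at hmle
    omega
  have hn₁ : 1 ≤ finrank ℂ (X.Es π topA (dl 239 t₁)) := by
    have e : X.Es π topA m'' = X.Es π topA (dl 239 t₁) := X.Es_congr π fun r hr => by
      rcases (hA r hr).2 with rfl | h | h
      · rw [dl_self, hm239, h239]
      · rw [dl_ne _ (fun e : r = 239 => h239adj (e ▸ h))]; exact hmadj r h
      · rw [dl_ne _ (hres' r h).2]; exact hres r h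
    rw [e] at hmle
    omega
  set n := finrank ℂ (X.Es π topA (dl 239 t₁)) with hn
  have hconst : ∀ t : F, t ≠ 0 → finrank ℂ (X.Es π topA (dl 239 t)) = n := fun t ht =>
    le_antisymm (top_const X π ht ht₁) (top_const X π ht₁ ht)
  rcases Nat.lt_or_ge n 2 with h | h
  · exact Or.inr fun t ht => ⟨by rw [hconst t ht]; omega, hle t ht⟩
  refine Or.inl (le_trans htg1 ?_)
  -- two families of characters
  choose mA hA239 hAadj hAle using fun p : {t : F // t ≠ 0} × (Fin adjL.length → F) =>
    translate_top X π htr.2 (m := dl 239 p.1.1) (by rw [dl_self]; exact p.1.2) (valAt adjL p.2)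
  let cons0 : (Fin 27 → F) → Fin adjL.length → F := fun g i => Fin.cons (α := fun _ => F) 0 g
    (Fin.cast adjL_length i)
  let mB : {t : F // t ≠ 0} × (Fin 27 → F) → ℕ → F := fun p r =>
    (weta E8C [7] (refl E8C 7 r) : F) * mA (p.1, cons0 p.2) (refl E8C 7 r)
  have hsw := word_swap
  simp only [Bool.and_eq_true, List.all_eq_true, List.contains_iff_mem, natBeq_eq, decide_eq_true_eq] at hsw
  have h0adj : (238 : ℕ) ∈ adjL := adjL_zero ▸ List.getElem_mem _
  have h238 : ∀ p : {t : F // t ≠ 0} × (Fin 27 → F), mA (p.1, cons0 p.2) 238 = 0 := fun p => by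
    rw [hAadj _ 238 h0adj]
    have e := valAt_apply adjL_nodup (cons0 p.2) ⟨0, by rw [adjL_length]; omega⟩
    rw [← adjL_zero, e]
    rfl
  have hB239 : ∀ p : {t : F // t ≠ 0} × (Fin 27 → F), mB p 239 = 0 := fun p => by
    simp only [mB, hsw.2, h238, mul_zero]
  have hw7 : IsWord chevE8 [7] := fun i hi => by
    rw [List.mem_singleton] at hi; subst hi; show 7 < 8; omega
  let M : ({t : F // t ≠ 0} × (Fin adjL.length → F)) ⊕ ({t : F // t ≠ 0} × (Fin 27 → F)) → ℕ → F := Sum.elim mA mB
  have hdim : ∀ i, 2 ≤ finrank ℂ (X.Es π topA (M i)) := by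
    rintro (p | p)
    · exact le_trans (by rw [hconst _ p.1.2]; exact h) (hAle p)
    · refine le_trans (le_trans (by rw [hconst _ p.1.2]; exact h) (hAle (p.1, cons0 p.2)))
        (finrank_le_of_map π (X.nW [7] hw7) fun v hv r hr => ?_)
      have hr1 := hsw.1 r hr
      have := X.eig_word π hw7 (show refl E8C 7 r < chevE8.nroots from (hA _ hr1.1).1) (hv _ hr1.1)
      rw [show perm E8C [7] (refl E8C 7 r) = r from hr1.2] at this
      exact this
  have hinjA : ∀ p p', (∀ r ∈ topA, mA p r = mA p' r) → p = p' := fun p p' e => by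
    refine Prod.ext (Subtype.ext ?_) (funext fun i => ?_)
    · have := e 239 h239A
      rwa [hA239, hA239, dl_self, dl_self] at this
    · have := e adjL[i] (hadjA _ (List.getElem_mem i.2))
      simp only [Fin.getElem_fin] at this
      rwa [hAadj _ _ (List.getElem_mem i.2), hAadj _ _ (List.getElem_mem i.2), valAt_apply adjL_nodup,
        valAt_apply adjL_nodup] at this
  have hcase : ∀ p q, ¬∀ r ∈ topA, mA p r = mB q r := fun p q e => p.1.2 (by
    have := e 239 h239A
    rwa [hB239, hA239, dl_self] at this)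
  refine le_trans ?_ ((X.sep π topA M (fun i => X.Es π topA (M i)) ⊤ (fun i => le_inf le_rfl le_top) ?_).trans
    (finrank_top ℂ V).le)
  · have := Finset.sum_le_sum (s := Finset.univ) fun i (_ : i ∈ Finset.univ) => hdim i
    refine le_trans ?_ this
    simp [Fintype.card_pi, Fintype.card_subtype_compl, Fintype.card_sum, adjL_length]
    apply le_of_eq
    ring
  · rintro (p | p) (p' | p') e
    · exact congrArg Sum.inl (hinjA p p' e)
    · exact absurd e (hcase p p')
    · exact absurd (fun r hr => (e r hr).symm) (hcase p' p)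
    · refine congrArg Sum.inr ?_
      have h1 := hinjA (p.1, cons0 p.2) (p'.1, cons0 p'.2) fun r hr => by
        have hr1 := hsw.1 r hr
        have := e (refl E8C 7 r) hr1.1
        simp only [M, Sum.elim_inr, mB, hr1.2] at this
        exact mul_left_cancel₀ (weta_ne [7] r) this
      obtain ⟨e1, e2⟩ := Prod.mk.inj h1
      refine Prod.ext e1 (funext fun j => ?_)
      have := congrFun e2 (Fin.cast adjL_length.symm j.succ)
      simpa [cons0] using this

end Cfsg.Agent.Lib.E8Deg41
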