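import Cfsg.Agent.Lib.E8Deg41.Top
import Cfsg.Agent.Lib.E8Deg41.StrataData

/-!
Vectors at every positive root of `E₈`.
-/

set_option autoImplicit false
set_option maxRecDepth 100000

namespace Cfsg.Agent.Lib.E8Deg41

open Cfsg.Lie Cfsg.Agent.Lib.Chev Cfsg.Agent.Lib.E6Deg41 Cfsg.Agent.Lib.E6Deg41.Setup Module

/-- The roots fixing the base line. -/
def lineFix : List ℕ := (topA.filter fun r => !Nat.beq r 225) ++ baseRep.map fun p => p.1

/-- The roots fixing the base vectors. -/
def baseFix : List ℕ := chainOut lineFix steps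

/-- The positive roots not below `b`. -/
def above (b : ℕ) : List ℕ :=
  (posL chevE8).filter fun r => !allN 8 fun j => decide (coef chevE8 E8C j r ≤ coef chevE8 E8C j b)

theorem base_words : ((baseW ++ simpleW).all fun i => Nat.blt i 8) = true := by decide +kernel

theorem word_base : (chkWord E8C baseW 239 topA topA && chkWord E8C baseW.reverse 225 topA topA &&
    chkWord E8C baseW.reverse 225 (225 :: baseAdj) topL && Nat.beq (perm E8C baseW 239) 225 &&
    Nat.beq (perm E8C baseW.reverse 225) 239 &&
    topA.all fun r => Nat.beq r 225 || (topA.contains (perm E8C baseW.reverse r) &&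
      !Nat.beq (perm E8C baseW.reverse r) 239)) = true := by decide +kernel

theorem stab_base : (baseRep.all fun p =>
    chkMove chevE8 E8C p.1 topA topA && (topA.all fun r => !(sm E8C p.1 r == some 225)) &&
    sm E8C p.2.1 p.2.2 == some p.1 && !Nat.beq p.2.2 (ng chevE8 p.2.1) && !Nat.beq p.1 225 &&
    (baseRep.any fun q => Nat.beq q.1 p.2.1) && (baseRep.any fun q => Nat.beq q.1 p.2.2)) = true := by
  decide +kernel

theorem adj_ok : (baseAdj.all fun r => topA.contains r && !Nat.beq r 225) = true := by decide +kernel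

theorem chain_ok : chkChain chevE8 E8C 225 baseAdj lineFix lineFix steps = true := by decide +kernel

theorem simple_ok : (Nat.beq (perm E8C simpleW 225) 162 &&
    chkWord E8C simpleW.reverse 162 (162 :: fixS162) (225 :: baseAdj) &&
    Nat.beq (perm E8C simpleW.reverse 162) 225 && (162 :: fixS162).all (fun r => Nat.blt r 240) &&
    fixF162.all (fun r => !Nat.beq r 162 && Nat.blt r 240 && baseFix.contains (perm E8C simpleW.reverse r)) &&
    chkWord E8C simpleW 225 (225 :: baseFix) (162 :: posL chevE8) && (225 :: baseFix).all (fun r => Nat.blt r 240) &&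
    !baseFix.contains 225) = true := by decide +kernel

theorem prop_ok0 : (((links.drop 0).take 1).all fun p => chkProp chevE8 E8C p.1 p.2.1 p.2.2.1 p.2.2.2.1 p.2.2.2.2) = true := by
  decide +kernel

theorem prop_ok1 : (((links.drop 1).take 1).all fun p => chkProp chevE8 E8C p.1 p.2.1 p.2.2.1 p.2.2.2.1 p.2.2.2.2) = true := by
  decide +kernel

theorem prop_ok2 : (((links.drop 2).take 1).all fun p => chkProp chevE8 E8C p.1 p.2.1 p.2.2.1 p.2.2.2.1 p.2.2.2.2) = true := by
  decide +kernel

theorem prop_ok3 : (((links.drop 3).take 1).all fun p => chkProp chevE8 E8C p.1 p.2.1 p.2.2.1 p.2.2.2.1 p.2.2.2.2) = true := by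
  decide +kernel

theorem prop_ok4 : (((links.drop 4).take 1).all fun p => chkProp chevE8 E8C p.1 p.2.1 p.2.2.1 p.2.2.2.1 p.2.2.2.2) = true := by
  decide +kernel

theorem prop_ok5 : (((links.drop 5).take 1).all fun p => chkProp chevE8 E8C p.1 p.2.1 p.2.2.1 p.2.2.2.1 p.2.2.2.2) = true := by
  decide +kernel

theorem prop_ok6 : (((links.drop 6).take 1).all fun p => chkProp chevE8 E8C p.1 p.2.1 p.2.2.1 p.2.2.2.1 p.2.2.2.2) = true := by
  decide +kernel

theorem prop_ok : (links.all fun p => chkProp chevE8 E8C p.1 p.2.1 p.2.2.1 p.2.2.2.1 p.2.2.2.2) = true := by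
  have h0 := prop_ok0
  have h1 := prop_ok1
  have h2 := prop_ok2
  have h3 := prop_ok3
  have h4 := prop_ok4
  have h5 := prop_ok5
  have h6 := prop_ok6
  simp only [links, List.drop_zero, List.drop_succ_cons, List.take_succ_cons, List.take_zero, List.all_cons,
    List.all_nil, Bool.and_true] at h0 h1 h2 h3 h4 h5 h6 ⊢
  simp only [h0, h1, h2, h3, h4, h5, h6, Bool.and_self]

theorem ex_ok : (links.all fun p => chkEx chevE8 E8C p.1 p.2.2.2.1 p.2.2.2.2) = true := by decide +kernel

/-- The check of a step to a root which is not fundamental. -/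
def chkUp (p : ℕ × ℕ × ℕ) : Bool :=
  Nat.blt p.2.1 8 && Nat.blt p.2.2 p.1 && Nat.ble 120 p.2.2 && Nat.beq (perm E8C [p.2.1] p.2.2) p.1 &&
    chkWord E8C [p.2.1] p.2.2 (p.2.2 :: above p.2.2) (p.1 :: above p.1)

theorem up_ok0 : ((upTab.drop 0).take 14).all chkUp = true := by decide +kernel

theorem up_ok1 : ((upTab.drop 14).take 14).all chkUp = true := by decide +kernel

theorem up_ok2 : ((upTab.drop 28).take 14).all chkUp = true := by decide +kernel

theorem up_ok3 : ((upTab.drop 42).take 14).all chkUp = true := by decide +kernel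

theorem up_ok4 : ((upTab.drop 56).take 14).all chkUp = true := by decide +kernel

theorem up_ok5 : ((upTab.drop 70).take 14).all chkUp = true := by decide +kernel

theorem up_ok6 : ((upTab.drop 84).take 14).all chkUp = true := by decide +kernel

theorem up_ok7 : ((upTab.drop 98).take 14).all chkUp = true := by decide +kernel

theorem up_split : upTab = (upTab.drop 0).take 14 ++ (upTab.drop 14).take 14 ++ (upTab.drop 28).take 14 ++ (upTab.drop 42).take 14 ++ (upTab.drop 56).take 14 ++ (upTab.drop 70).take 14 ++ (upTab.drop 84).take 14 ++ (upTab.drop 98).take 14 := by decide +kernel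

theorem up_ok : upTab.all chkUp = true := by
  rw [up_split]
  simp only [List.all_append, up_ok0, up_ok1, up_ok2, up_ok3, up_ok4, up_ok5, up_ok6, up_ok7, Bool.and_self]

theorem up_cover : ((posL chevE8).all fun b => [162, 141, 135, 130, 126, 123, 121, 120].contains b ||
    upTab.any fun p => Nat.beq p.1 b) = true := by decide +kernel

theorem isWord_baseW : IsWord chevE8 baseW := fun i hi => by
  show i < 8
  simpa [Nat.blt_eq] using List.all_eq_true.1 base_words i (List.mem_append_left _ hi)

theorem isWord_baseW_rev : IsWord chevE8 baseW.reverse := fun i hi => isWord_baseW i (List.mem_reverse.1 hi)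

theorem isWord_simpleW : IsWord chevE8 simpleW := fun i hi => by
  show i < 8
  simpa [Nat.blt_eq] using List.all_eq_true.1 base_words i (List.mem_append_right _ hi)

theorem isWord_simpleW_rev : IsWord chevE8 simpleW.reverse := fun i hi => isWord_simpleW i (List.mem_reverse.1 hi)

variable {F : Type*} [Field F] [Fintype F] (X : Setup chevE8 E8C F)
variable {V : Type*} [AddCommGroup V] [Module ℂ V] [FiniteDimensional ℂ V]
  (π : ↥(chevE8.group F) →* Module.End ℂ V)

theorem topA_lt {r : ℕ} (hr : r ∈ topA) : r < chevE8.nroots := (adjL_facts.2.2.2.2 r hr).1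

variable (hone : ∀ t : F, t ≠ 0 → finrank ℂ (X.Es π topA (dl 239 t)) = 1 ∧
  X.Es π topL (dl 239 t) ≤ X.Es π topA (dl 239 t))
include hone

/-- The base character. -/
theorem base_line {t : F} (ht : t ≠ 0) : finrank ℂ (X.Es π topA (dl 225 t)) = 1 := by
  have hw := word_base
  simp only [Bool.and_eq_true, natBeq_eq, decide_eq_true_eq] at hw
  obtain ⟨⟨⟨⟨⟨hw1, hw2⟩, -⟩, hp1⟩, hp2⟩, -⟩ := hw
  refine le_antisymm ?_ ?_
  · have := X.word_finrank π isWord_baseW_rev (fun r => topA_lt) hw2 t
    rw [hp2, (hone _ (mul_ne_zero (weta_ne _ _) ht)).1] at this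
    exact this
  · have h0 : (weta E8C baseW 239 : F) * t ≠ 0 := mul_ne_zero (weta_ne _ _) ht
    have := X.word_finrank π isWord_baseW (fun r => topA_lt) hw1 ((weta E8C baseW 239 : F) * t)
    rw [hp1, (hone _ h0).1] at this
    rcases weta_cases (C := E8C) baseW 239 with w | w <;> simpa [w] using this

/-- Eigenvectors at the base root fixed by its neighbours are fixed by the stabiliser of the line. -/
theorem fix_line : X.FixP π 225 baseAdj lineFix := by
  intro t ht v hv
  by_cases hv0 : v = 0
  · subst hv0; exact zero_mem _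
  have hw := word_base
  simp only [Bool.and_eq_true, natBeq_eq, decide_eq_true_eq, List.all_eq_true, Bool.or_eq_true,
    List.contains_iff_mem, Bool.not_eq_true', decide_eq_false_iff_not] at hw
  obtain ⟨⟨⟨⟨⟨-, -⟩, hw3⟩, -⟩, hp2⟩, hback⟩ := hw
  have hadj := List.all_eq_true.1 adj_ok
  have hn : ∀ r ∈ 225 :: baseAdj, r < chevE8.nroots := fun r hr => by
    rcases List.mem_cons.1 hr with rfl | hr
    · decide
    · have := hadj r hr
      simp only [Bool.and_eq_true, List.contains_iff_mem] at this
      exact topA_lt this.1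
  have himg := X.word_mem π isWord_baseW_rev hn hw3 hv
  rw [hp2] at himg
  have himgA := (hone _ (mul_ne_zero (weta_ne _ _) ht)).2 himg
  have hvA : v ∈ X.Es π topA (dl 225 t) := fun r hr => by
    rcases hback r hr with rfl | ⟨h1, h2⟩
    · exact hv _ List.mem_cons_self
    · have h3 := himgA _ h1
      rw [dl_ne _ h2] at h3
      have h4 := X.eig_of_word π isWord_baseW_rev (topA_lt hr) h3
      by_cases e : r = 225
      · subst e; exact hv _ List.mem_cons_self
      · rw [dl_ne _ e]; exact h4
  have scal : ∀ p ∈ baseRep, ∀ s, ∃ c : ℂ, π (X.x p.1 s) v = c • v := by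
    intro p hp s
    have hc := List.all_eq_true.1 stab_base p hp
    simp only [Bool.and_eq_true, List.all_eq_true, Bool.not_eq_true', beq_eq_false_iff_ne, ne_eq] at hc
    obtain ⟨⟨⟨⟨⟨⟨hm, hno⟩, -⟩, -⟩, -⟩, -⟩, -⟩ := hc
    have hmem : π (X.x p.1 s) v ∈ X.Es π topA (dl 225 t) := by
      have h := X.move_mem π hm s hvA
      rwa [X.Es_congr π (m' := dl 225 t) fun r hr => shM_keep (fun a ha => dl_ne _ fun (e : a = 225) => hno r hr (e ▸ ha)) s] at h
    obtain ⟨c, hc⟩ := (finrank_eq_one_iff_of_nonzero' (⟨v, hvA⟩ : X.Es π topA (dl 225 t))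
      (fun e => hv0 (congrArg Subtype.val e))).1 (base_line X π hone ht) ⟨_, hmem⟩
    exact ⟨c, (congrArg Subtype.val hc).symm⟩
  intro r hr
  rcases List.mem_cons.1 hr with rfl | hr
  · exact hv _ List.mem_cons_self
  rcases List.mem_append.1 hr with hr | hr
  · exact hvA r (List.mem_filter.1 hr).1
  · obtain ⟨p, hp, rfl⟩ := List.mem_map.1 hr
    have hc := List.all_eq_true.1 stab_base p hp
    simp only [Bool.and_eq_true, List.any_eq_true, natBeq_eq, decide_eq_true_eq, Bool.not_eq_true',
      decide_eq_false_iff_not, beq_iff_eq, List.all_eq_true] at hc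
    obtain ⟨⟨⟨⟨⟨⟨hm, -⟩, hs⟩, hne⟩, h225⟩, q1, hq1, e1⟩, q2, hq2, e2⟩ := hc
    have hlt : ∀ q ∈ baseRep, q.1 < chevE8.nroots := fun q hq => by
      have := List.all_eq_true.1 stab_base q hq
      simp only [Bool.and_eq_true] at this
      exact (chkMove_iff.1 this.1.1.1.1.1.1).1
    rw [dl_ne _ h225]
    exact X.eig_zero_of_commutator π (e1 ▸ hlt q1 hq1) (e2 ▸ hlt q2 hq2) hne hs hv0 (e1 ▸ scal q1 hq1)
      (e2 ▸ scal q2 hq2) (scal p hp)

/-- Eigenvectors at the base root fixed by its neighbours are fixed by all the roots found. -/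
theorem fix_full : X.FixP π 225 baseAdj baseFix := by
  intro t ht v hv r hr
  rcases List.mem_cons.1 hr with rfl | hr
  · exact hv _ List.mem_cons_self
  have h225 : ¬baseFix.contains 225 = true := by
    have := simple_ok
    simp only [Bool.and_eq_true, Bool.not_eq_true'] at this
    rw [this.2]
    simp
  have hb := hv 225 List.mem_cons_self
  rw [dl_self] at hb
  rw [dl_ne _ (fun e : r = 225 => h225 (List.contains_iff_mem.2 (e ▸ hr)))]
  refine learn_chain X π (fix_line X π hone) ht hb steps lineFix chain_ok (fun s hs => ?_) r hr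
  have := fix_line X π hone t ht v hv s (List.mem_cons_of_mem _ hs)
  rwa [dl_ne _ ?_] at this
  intro e
  subst e
  have h : ¬lineFix.contains 225 = true := by decide +kernel
  exact h (List.contains_iff_mem.2 hs)

/-- At the first fundamental root. -/
theorem fix_first : X.FixP π 162 fixS162 fixF162 := by
  intro t ht v hv r hr
  rcases List.mem_cons.1 hr with rfl | hr
  · exact hv _ List.mem_cons_self
  have hb := simple_ok
  simp only [Bool.and_eq_true, natBeq_eq, decide_eq_true_eq, List.all_eq_true, List.contains_iff_mem,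
    Bool.not_eq_true', decide_eq_false_iff_not, Nat.blt_eq] at hb
  obtain ⟨⟨⟨⟨⟨⟨⟨-, hw⟩, hp⟩, hn⟩, hF⟩, -⟩, -⟩, h225⟩ := hb
  simp only [Bool.eq_false_iff, ne_eq, List.contains_iff_mem] at h225
  have himg := X.word_mem π isWord_simpleW_rev hn hw hv
  rw [hp] at himg
  obtain ⟨⟨hr162, hrn⟩, hmem⟩ := hF r hr
  have h1 := fix_full X π hone _ (mul_ne_zero (weta_ne _ _) ht) _ himg _ (List.mem_cons_of_mem _ hmem)
  rw [dl_ne _ (fun e => h225 (by rw [e] at hmem; exact hmem))] at h1
  rw [dl_ne _ hr162]
  exact X.eig_of_word π isWord_simpleW_rev hrn h1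

theorem ex_first : X.ExP π 162 := by
  intro t ht
  have hb := simple_ok
  simp only [Bool.and_eq_true, natBeq_eq, decide_eq_true_eq, List.all_eq_true, Nat.blt_eq] at hb
  obtain ⟨⟨⟨⟨⟨⟨⟨hp, -⟩, -⟩, -⟩, -⟩, hw⟩, hn⟩, -⟩ := hb
  set c : F := (weta E8C simpleW 225 : F) * t
  have hc : c ≠ 0 := mul_ne_zero (weta_ne _ _) ht
  have h1 : 0 < finrank ℂ (X.Es π topA (dl 225 c)) := by rw [base_line X π hone hc]; exact one_pos
  obtain ⟨⟨v, hv⟩, hv0⟩ := Module.finrank_pos_iff_exists_ne_zero.1 h1
  have hadj := List.all_eq_true.1 adj_ok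
  have hfull := fix_full X π hone c hc v (fun r hr => by
    rcases List.mem_cons.1 hr with rfl | hr
    · exact hv _ (by decide)
    · have := hadj r hr
      simp only [Bool.and_eq_true, List.contains_iff_mem] at this
      exact hv r this.1)
  have := X.word_mem π isWord_simpleW hn hw hfull
  rw [hp, show (weta E8C simpleW 225 : F) * c = t by
    rcases weta_cases (C := E8C) simpleW 225 with w | w <;> simp [c, w]] at this
  exact ⟨π (X.nW simpleW isWord_simpleW) v,
    fun e => hv0 (Subtype.ext (act_injective π (X.nW simpleW isWord_simpleW) (e.trans (map_zero _).symm))), this⟩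

/-- Vectors exist at every fundamental root. -/
theorem ex_simple : ∀ b ∈ [162, 141, 135, 130, 126, 123, 121, 120], X.ExP π b := by
  have hP := List.all_eq_true.1 prop_ok
  have hE := List.all_eq_true.1 ex_ok
  have f1 := fix_first X π hone
  have f3 := X.fix_prop π (hP (⟨162, 135, 163, 2, 0⟩, fixS162, fixF162, fixS135, fixF135) (by simp [links])) f1
  have f4 := X.fix_prop π (hP (⟨135, 130, 136, 3, 2⟩, fixS135, fixF135, fixS130, fixF130) (by simp [links])) f3
  have f2 := X.fix_prop π (hP (⟨130, 141, 142, 1, 3⟩, fixS130, fixF130, fixS141, fixF141) (by simp [links])) f4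
  have f5 := X.fix_prop π (hP (⟨130, 126, 131, 4, 3⟩, fixS130, fixF130, fixS126, fixF126) (by simp [links])) f4
  have f6 := X.fix_prop π (hP (⟨126, 123, 127, 5, 4⟩, fixS126, fixF126, fixS123, fixF123) (by simp [links])) f5
  have f7 := X.fix_prop π (hP (⟨123, 121, 124, 6, 5⟩, fixS123, fixF123, fixS121, fixF121) (by simp [links])) f6
  have f8 := X.fix_prop π (hP (⟨121, 120, 122, 7, 6⟩, fixS121, fixF121, fixS120, fixF120) (by simp [links])) f7
  have e1 := ex_first X π hone
  have e3 := X.ex_prop π (hE (⟨162, 135, 163, 2, 0⟩, fixS162, fixF162, fixS135, fixF135) (by simp [links])) e1 f3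
  have e4 := X.ex_prop π (hE (⟨135, 130, 136, 3, 2⟩, fixS135, fixF135, fixS130, fixF130) (by simp [links])) e3 f4
  have e2 := X.ex_prop π (hE (⟨130, 141, 142, 1, 3⟩, fixS130, fixF130, fixS141, fixF141) (by simp [links])) e4 f2
  have e5 := X.ex_prop π (hE (⟨130, 126, 131, 4, 3⟩, fixS130, fixF130, fixS126, fixF126) (by simp [links])) e4 f5
  have e6 := X.ex_prop π (hE (⟨126, 123, 127, 5, 4⟩, fixS126, fixF126, fixS123, fixF123) (by simp [links])) e5 f6
  have e7 := X.ex_prop π (hE (⟨123, 121, 124, 6, 5⟩, fixS123, fixF123, fixS121, fixF121) (by simp [links])) e6 f7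
  have e8 := X.ex_prop π (hE (⟨121, 120, 122, 7, 6⟩, fixS121, fixF121, fixS120, fixF120) (by simp [links])) e7 f8
  intro b hb
  simp only [List.mem_cons, List.not_mem_nil, or_false] at hb
  rcases hb with rfl | rfl | rfl | rfl | rfl | rfl | rfl | rfl <;> assumption

/-- Vectors exist at every positive root. -/
theorem ex_pos : ∀ b, b ∈ posL chevE8 → ∀ t : F, t ≠ 0 → ∃ v : V, v ≠ 0 ∧ v ∈ X.Es π (b :: above b) (dl b t) := by
  intro b
  induction b using Nat.strong_induction_on with
  | _ b ih =>
    intro hb t ht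
    rcases Bool.or_eq_true _ _ |>.mp (List.all_eq_true.1 up_cover b hb) with h | h
    · obtain ⟨v, hv0, hv⟩ := ex_simple X π hone b (List.contains_iff_mem.1 h) t ht
      exact ⟨v, hv0, X.Es_mono π (fun r hr => by
        rcases List.mem_cons.1 hr with rfl | hr
        · exact List.mem_cons_self
        · exact List.mem_cons_of_mem _ (List.mem_filter.1 hr).1) _ hv⟩
    · obtain ⟨⟨b', i, d⟩, hp, he⟩ := List.any_eq_true.1 h
      rw [natBeq_eq, decide_eq_true_eq] at he
      obtain rfl : b' = b := he
      have hc := List.all_eq_true.1 up_ok _ hp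
      simp only [chkUp, Bool.and_eq_true, Nat.blt_eq, Nat.ble_eq, natBeq_eq, decide_eq_true_eq] at hc
      obtain ⟨⟨⟨⟨hi, hlt⟩, h120⟩, hperm⟩, hw⟩ := hc
      have hdn : d < chevE8.nroots := by
        have := List.mem_range'_1.1 hb
        show d < 240
        change 120 ≤ b' ∧ b' < 120 + 120 at this
        omega
      have hd : d ∈ posL chevE8 := List.mem_range'_1.2 (by
        have := List.mem_range'_1.1 hb
        change 120 ≤ b' ∧ b' < 120 + 120 at this
        show 120 ≤ d ∧ d < 120 + 120
        omega)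
      have hL : IsWord chevE8 [i] := fun j hj => by rw [List.mem_singleton] at hj; subst hj; exact hi
      set c : F := (weta E8C [i] d : F) * t
      obtain ⟨v, hv0, hv⟩ := ih d hlt hd c (mul_ne_zero (weta_ne _ _) ht)
      refine ⟨π (X.nW [i] hL) v, fun e => hv0 (act_injective π (X.nW [i] hL) (by rw [map_zero]; exact e)), ?_⟩
      have := X.word_mem π hL (fun r hr => ?_) hw hv
      · rw [hperm, show (weta E8C [i] d : F) * c = t by
          rcases weta_cases (C := E8C) [i] d with w | w <;> simp [c, w]] at this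
        exact this
      · rcases List.mem_cons.1 hr with rfl | hr
        · exact hdn
        · have := List.mem_range'_1.1 (List.mem_filter.1 hr).1
          change 120 ≤ r ∧ r < 120 + 120 at this
          show r < 240
          omega

end Cfsg.Agent.Lib.E8Deg41
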